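import Mathlib
import Cfsg.Prelude.Def_DegreeGraph

/-!
# (GR) for S3670 (helper54): the degree graph from three degrees.
-/

set_option autoImplicit false

namespace Cfsg.Agent.Helper60.U33

open Cfsg

universe u

/-- the triangle on `{2, 3, 7}` -/
def tri : SimpleGraph ℕ where
  Adj p q := p ≠ q ∧ (p = 2 ∨ p = 3 ∨ p = 7) ∧ (q = 2 ∨ q = 3 ∨ q = 7)
  symm := ⟨fun _ _ h => ⟨h.1.symm, h.2.2, h.2.1⟩⟩
  loopless := ⟨fun _ h => h.1 rfl⟩

/-- a prime divisor of `6048 = 2^5·3^3·7` is `2`, `3` or `7` -/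
theorem prime_dvd_6048 {p : ℕ} (hp : p.Prime) (h : p ∣ 6048) : p = 2 ∨ p = 3 ∨ p = 7 := by
  have h6048 : (6048 : ℕ) = 2 ^ 5 * 3 ^ 3 * 7 := by norm_num
  rw [h6048] at h
  rcases (Nat.Prime.dvd_mul hp).mp h with h1 | h7
  · rcases (Nat.Prime.dvd_mul hp).mp h1 with h2 | h3
    · left
      exact (Nat.prime_dvd_prime_iff_eq hp Nat.prime_two).mp (hp.dvd_of_dvd_pow h2)
    · right; left
      exact (Nat.prime_dvd_prime_iff_eq hp Nat.prime_three).mp (hp.dvd_of_dvd_pow h3)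
  · right; right
    exact (Nat.prime_dvd_prime_iff_eq hp (by norm_num)).mp h7

/-- (GR) if all irreducible degrees divide `6048` and degrees divisible by `6`, `14`, `21` occur,
then the vertex set is `{2, 3, 7}` and the degree graph is the triangle. -/
theorem GR_graph {K : Type u} [Group K] (hdvd : ∀ d ∈ charDegrees K, d ∣ 6048)
    (h6 : ∃ d ∈ charDegrees K, 6 ∣ d) (h14 : ∃ d ∈ charDegrees K, 14 ∣ d)
    (h21 : ∃ d ∈ charDegrees K, 21 ∣ d) :
    degreePrimes K = {2, 3, 7} ∧ degreeGraph K = tri := by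
  obtain ⟨d6, hd6, h6d⟩ := h6
  obtain ⟨d14, hd14, h14d⟩ := h14
  obtain ⟨d21, hd21, h21d⟩ := h21
  constructor
  · ext p
    simp only [degreePrimes, Set.mem_setOf_eq, Set.mem_insert_iff, Set.mem_singleton_iff]
    constructor
    · rintro ⟨hp, d, hd, hpd⟩
      exact prime_dvd_6048 hp (hpd.trans (hdvd d hd))
    · rintro (rfl | rfl | rfl)
      · exact ⟨Nat.prime_two, d6, hd6, Dvd.dvd.trans (by norm_num) h6d⟩
      · exact ⟨Nat.prime_three, d6, hd6, Dvd.dvd.trans (by norm_num) h6d⟩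
      · exact ⟨by norm_num, d14, hd14, Dvd.dvd.trans (by norm_num) h14d⟩
  · ext p q
    show (p ≠ q ∧ p.Prime ∧ q.Prime ∧ ∃ d ∈ charDegrees K, p * q ∣ d) ↔
      (p ≠ q ∧ (p = 2 ∨ p = 3 ∨ p = 7) ∧ (q = 2 ∨ q = 3 ∨ q = 7))
    constructor
    · rintro ⟨hne, hp, hq, d, hd, hpq⟩
      refine ⟨hne, ?_, ?_⟩
      · exact prime_dvd_6048 hp ((Dvd.intro _ rfl).trans (hpq.trans (hdvd d hd)))
      · exact prime_dvd_6048 hq ((Dvd.intro_left _ rfl).trans (hpq.trans (hdvd d hd)))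
    · rintro ⟨hne, hp, hq⟩
      have p2 : Nat.Prime 2 := Nat.prime_two
      have p3 : Nat.Prime 3 := Nat.prime_three
      have p7 : Nat.Prime 7 := by norm_num
      rcases hp with rfl | rfl | rfl <;> rcases hq with rfl | rfl | rfl
      · exact absurd rfl hne
      · exact ⟨hne, p2, p3, d6, hd6, by simpa using h6d⟩
      · exact ⟨hne, p2, p7, d14, hd14, by simpa using h14d⟩
      · exact ⟨hne, p3, p2, d6, hd6, by simpa using h6d⟩
      · exact absurd rfl hne
      · exact ⟨hne, p3, p7, d21, hd21, by simpa using h21d⟩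
      · exact ⟨hne, p7, p2, d14, hd14, by simpa using h14d⟩
      · exact ⟨hne, p7, p3, d21, hd21, by simpa using h21d⟩
      · exact absurd rfl hne

end Cfsg.Agent.Helper60.U33
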