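import Mathlib
import Cfsg.Agent.Helper16.DefOneSetup

/-!
# (S7) for S3670 (helper54): the Sylow 7-subgroup of a group of order 6048 with the spectrum of
`PSU_3(3)`.
-/

set_option autoImplicit false

namespace Cfsg.Agent.Helper60.U33

open Cfsg Cfsg.Agent.Helper16.DefOne

universe u

instance fact7 : Fact (Nat.Prime 7) := ⟨by norm_num⟩

/-- a divisor of `864` that is divisible by neither `2` nor `3` is `1` -/
theorem eq_one_of_dvd_864 (m : ℕ) (hm : m ∣ 864) (h2 : ¬ 2 ∣ m) (h3 : ¬ 3 ∣ m) : m = 1 := by
  have hc2 : Nat.Coprime m 2 := by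
    rw [Nat.coprime_comm]
    exact (Nat.Prime.coprime_iff_not_dvd Nat.prime_two).mpr h2
  have hc3 : Nat.Coprime m 3 := by
    rw [Nat.coprime_comm]
    exact (Nat.Prime.coprime_iff_not_dvd Nat.prime_three).mpr h3
  have hc : Nat.Coprime m 864 := by
    have : (864 : ℕ) = 2 ^ 5 * 3 ^ 3 := by norm_num
    rw [this]
    exact Nat.Coprime.mul_right (hc2.pow_right 5) (hc3.pow_right 3)
  exact Nat.Coprime.eq_one_of_dvd hc hm

/-- (S7) In a group of order `6048 = 2^5·3^3·7` with element orders in `{1,2,3,4,6,7,8,12}`,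
a Sylow `7`-subgroup `P` has order `7`, `C(P) = P`, `|N(P) : P| = 3`, `|G : N(P)| = 288`. -/
theorem S7_sylow {G : Type u} [Group G] [Fintype G] (hcard : Nat.card G = 6048)
    (hspec : ∀ g : G, orderOf g ∈ ({1, 2, 3, 4, 6, 7, 8, 12} : Set ℕ)) :
    ∃ P : Sylow 7 G, Nat.card P = 7 ∧ cen P = (P : Subgroup G) ∧
      (cen P).relIndex (nor P) = 3 ∧ (nor P).index = 288 := by
  classical
  obtain ⟨P⟩ : Nonempty (Sylow 7 G) := inferInstance
  -- `|P| = 7`
  have hP : Nat.card P = 7 := by
    obtain ⟨k, hk⟩ := P.2.exists_card_eq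
    have h7 : 7 ∣ Nat.card P := P.dvd_card_of_dvd_card (by rw [hcard]; norm_num)
    have hdvd : Nat.card P ∣ 6048 := by
      rw [← hcard]; exact Subgroup.card_subgroup_dvd_card _
    rw [hk] at h7 hdvd ⊢
    have hk1 : k ≠ 0 := by
      rintro rfl
      norm_num at h7
    have hk2 : k < 2 := by
      by_contra hcon
      push_neg at hcon
      have : 7 ^ 2 ∣ 6048 := (pow_dvd_pow 7 hcon).trans hdvd
      norm_num at this
    have : k = 1 := by omega
    rw [this, pow_one]
  have hcyc : IsCyclic P := isCyclic_of_prime_card hP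
  have hPle : (P : Subgroup G) ≤ cen P := (P : Subgroup G).le_centralizer
  -- a generator of `P`
  obtain ⟨x, hx⟩ := exists_prime_orderOf_dvd_card' (G := P) 7 (by rw [hP])
  have hxG : orderOf (x : G) = 7 := by rw [Subgroup.orderOf_coe]; exact hx
  -- `C(P) = P`
  have hC : cen P = (P : Subgroup G) := by
    have h7C : 7 ∣ Nat.card (cen P) := by
      have := Subgroup.card_dvd_of_le hPle
      rwa [hP] at this
    have hCdvd : Nat.card (cen P) ∣ 6048 := by
      rw [← hcard]; exact Subgroup.card_subgroup_dvd_card _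
    obtain ⟨m, hm⟩ := h7C
    have hm864 : m ∣ 864 := by
      rw [hm] at hCdvd
      have : (6048 : ℕ) = 7 * 864 := by norm_num
      rw [this] at hCdvd
      exact Nat.dvd_of_mul_dvd_mul_left (by norm_num) hCdvd
    have key : ∀ r : ℕ, r.Prime → r ≠ 7 → r * 7 ∉ ({1, 2, 3, 4, 6, 7, 8, 12} : Set ℕ) →
        r ∣ m → False := by
      intro r hr hr7 hnot hrm
      haveI : Fact r.Prime := ⟨hr⟩
      have hrC : r ∣ Nat.card (cen P) := by rw [hm]; exact Dvd.dvd.mul_left hrm 7
      obtain ⟨c, hc⟩ := exists_prime_orderOf_dvd_card' (G := cen P) r hrC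
      have hcG : orderOf (c : G) = r := by rw [Subgroup.orderOf_coe]; exact hc
      have hcomm : Commute (c : G) (x : G) := by
        have := c.2
        rw [Subgroup.mem_centralizer_iff] at this
        exact (this (x : G) x.2).symm
      have hcop : Nat.Coprime (orderOf (c : G)) (orderOf (x : G)) := by
        rw [hcG, hxG]
        exact (Nat.coprime_primes hr (by norm_num)).mpr hr7
      have ho := hcomm.orderOf_mul_eq_mul_orderOf_of_coprime hcop
      rw [hcG, hxG] at ho
      exact hnot (ho ▸ hspec _)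
    have hm1 : m = 1 := by
      apply eq_one_of_dvd_864 m hm864
      · intro h2
        exact key 2 Nat.prime_two (by norm_num) (by norm_num) h2
      · intro h3
        exact key 3 Nat.prime_three (by norm_num) (by norm_num) h3
    rw [hm1, mul_one] at hm
    symm
    apply Subgroup.eq_of_le_of_card_ge hPle
    rw [hm, hP]
  refine ⟨P, hP, hC, ?_⟩
  -- `N(C(P)) = N(P)`
  have hnor : nor P = Subgroup.normalizer ((P : Subgroup G) : Set G) := by
    show Subgroup.normalizer ((cen P : Subgroup G) : Set G) = _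
    rw [hC]
  rw [hnor, hC]
  -- `|N : P|` divides `6`
  have key := Subgroup.card_dvd_of_injective _
    (QuotientGroup.kerLift_injective (P : Subgroup G).normalizerMonoidHom)
  rw [Subgroup.normalizerMonoidHom_ker, ← Subgroup.index, ← Subgroup.relIndex] at key
  have hcenP : Subgroup.centralizer ((P : Subgroup G) : Set G) = (P : Subgroup G) := hC
  rw [hcenP, IsCyclic.card_mulAut, hP] at key
  have h6 : Nat.totient 7 = 6 := by
    rw [Nat.totient_prime (by norm_num)]
  rw [h6] at key
  -- Sylow counting
  have hidx : (P : Subgroup G).index = 864 := by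
    have := (P : Subgroup G).card_mul_index
    rw [hcard, hP] at this
    omega
  have hmul := Subgroup.relIndex_mul_index (P : Subgroup G).le_normalizer
  rw [hidx] at hmul
  have hmod : (Subgroup.normalizer ((P : Subgroup G) : Set G)).index ≡ 1 [MOD 7] := by
    have h1 := card_sylow_modEq_one 7 G
    have h2 := Sylow.card_eq_index_normalizer P
    rw [h2] at h1
    exact h1
  set r := (P : Subgroup G).relIndex (Subgroup.normalizer ((P : Subgroup G) : Set G)) with hr
  set n := (Subgroup.normalizer ((P : Subgroup G) : Set G)).index with hn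
  have hr6 : r ∈ Nat.divisors 6 := Nat.mem_divisors.mpr ⟨key, by norm_num⟩
  have hdiv : Nat.divisors 6 = {1, 2, 3, 6} := by decide
  rw [hdiv] at hr6
  unfold Nat.ModEq at hmod
  simp only [Finset.mem_insert, Finset.mem_singleton] at hr6
  rcases hr6 with h | h | h | h <;> rw [h] at hmul <;> constructor <;> omega

end Cfsg.Agent.Helper60.U33
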